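import Cfsg.Agent.Lib.Spor.J4A.Defs

set_option autoImplicit false
set_option maxRecDepth 100000
set_option Elab.async false
set_option exponentiation.threshold 100000

namespace Cfsg.Agent.Spor.J4A
open Cfsg.Agent.PG

theorem cl12_0_0 : chkOn A 15 0 8 (cl12_l) = true := by decide +kernel

theorem cl12_0_8 : chkOn A 15 8 7 (cl12_l) = true := by decide +kernel

theorem ok12 : plainOK A 48 49 4 tr12 ce12 = true := by decide +kernel

theorem orb12 : orbCardB A 12 48 4 2 2 = true := by decide +kernel

theorem cl11_0_0 : chkOn A 15 0 8 (cl11_l) = true := by decide +kernel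

theorem cl11_0_8 : chkOn A 15 8 7 (cl11_l) = true := by decide +kernel

theorem ok11 : plainOK A 47 48 3 tr11 ce11 = true := by decide +kernel

theorem orb11 : orbCardB A 12 47 3 2 2 = true := by decide +kernel

theorem cl10_0_0 : chkOn A 15 0 8 (cl10_l) = true := by decide +kernel

theorem cl10_0_8 : chkOn A 15 8 7 (cl10_l) = true := by decide +kernel

theorem ok10 : plainOK A 46 47 2 tr10 ce10 = true := by decide +kernel

theorem orb10 : orbCardB A 12 46 2 2 2 = true := by decide +kernel

theorem cl9_0_0 : chkOn A 15 0 8 (cl9_l) = true := by decide +kernel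

theorem cl9_0_8 : chkOn A 15 8 7 (cl9_l) = true := by decide +kernel

theorem ok9 : plainOK A 45 46 1155 tr9 ce9 = true := by decide +kernel

theorem orb9 : orbCardB A 12 45 1155 2 2 = true := by decide +kernel

theorem cl8_0_0 : chkOn A 15 0 8 (cl8_l) = true := by decide +kernel

theorem cl8_0_8 : chkOn A 15 8 7 (cl8_l) = true := by decide +kernel

theorem ok8 : plainOK A 44 45 16 tr8 ce8 = true := by decide +kernel

theorem orb8 : orbCardB A 12 44 16 2 2 = true := by decide +kernel

theorem cl7_0_0 : chkOn A 15 0 8 (cl7_l) = true := by decide +kernel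

theorem cl7_0_8 : chkOn A 15 8 7 (cl7_l) = true := by decide +kernel

theorem ok7 : plainOK A 43 44 44 tr7 ce7 = true := by decide +kernel

theorem orb7 : orbCardB A 12 43 44 2 2 = true := by decide +kernel

theorem cl6_0_0 : chkOn A 15 0 8 (cl6_l) = true := by decide +kernel

theorem cl6_0_8 : chkOn A 15 8 7 (cl6_l) = true := by decide +kernel

theorem ok6 : plainOK A 42 43 1147 tr6 ce6 = true := by decide +kernel

theorem orb6 : orbCardB A 12 42 1147 2 2 = true := by decide +kernel

theorem cl5_0_0 : chkOn A 15 0 8 (cl5_l) = true := by decide +kernel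

theorem cl5_0_8 : chkOn A 15 8 7 (cl5_l) = true := by decide +kernel

theorem ok5 : plainOK A 41 42 533 tr5 ce5 = true := by decide +kernel

theorem orb5 : orbCardB A 12 41 533 2 2 = true := by decide +kernel

theorem cl4_0_0 : chkOn A 15 0 8 (cl4_l) = true := by decide +kernel

theorem cl4_0_8 : chkOn A 15 8 7 (cl4_l) = true := by decide +kernel

theorem ok4 : plainOK A 40 41 17 tr4 ce4 = true := by decide +kernel

theorem orb4 : orbCardB A 12 40 17 2 2 = true := by decide +kernel

theorem cl3_0_0 : chkOn A 15 0 8 ((cl3_l).take 33) = true := by decide +kernel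

theorem cl3_0_8 : chkOn A 15 8 7 ((cl3_l).take 33) = true := by decide +kernel

theorem cl3_1_0 : chkOn A 15 0 8 (((cl3_l).drop 33).take 21) = true := by decide +kernel

theorem cl3_1_8 : chkOn A 15 8 7 (((cl3_l).drop 33).take 21) = true := by decide +kernel

theorem cl3_2_0 : chkOn A 15 0 8 ((((cl3_l).drop 33).drop 21).take 18) = true := by decide +kernel

theorem cl3_2_8 : chkOn A 15 8 7 ((((cl3_l).drop 33).drop 21).take 18) = true := by decide +kernel

theorem cl3_3_0 : chkOn A 15 0 8 (((((cl3_l).drop 33).drop 21).drop 18).take 18) = true := by decide +kernel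

theorem cl3_3_8 : chkOn A 15 8 7 (((((cl3_l).drop 33).drop 21).drop 18).take 18) = true := by decide +kernel

theorem cl3_4_0 : chkOn A 15 0 8 ((((((cl3_l).drop 33).drop 21).drop 18).drop 18).take 18) = true := by decide +kernel

theorem cl3_4_8 : chkOn A 15 8 7 ((((((cl3_l).drop 33).drop 21).drop 18).drop 18).take 18) = true := by decide +kernel

theorem cl3_5_0 : chkOn A 15 0 8 (((((((cl3_l).drop 33).drop 21).drop 18).drop 18).drop 18).take 20) = true := by decide +kernel

theorem cl3_5_8 : chkOn A 15 8 7 (((((((cl3_l).drop 33).drop 21).drop 18).drop 18).drop 18).take 20) = true := by decide +kernel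

theorem cl3_6_0 : chkOn A 15 0 8 ((((((((cl3_l).drop 33).drop 21).drop 18).drop 18).drop 18).drop 20).take 20) = true := by decide +kernel

theorem cl3_6_8 : chkOn A 15 8 7 ((((((((cl3_l).drop 33).drop 21).drop 18).drop 18).drop 18).drop 20).take 20) = true := by decide +kernel

theorem cl3_7_0 : chkOn A 15 0 8 (((((((((cl3_l).drop 33).drop 21).drop 18).drop 18).drop 18).drop 20).drop 20).take 17) = true := by decide +kernel

theorem cl3_7_8 : chkOn A 15 8 7 (((((((((cl3_l).drop 33).drop 21).drop 18).drop 18).drop 18).drop 20).drop 20).take 17) = true := by decide +kernel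

theorem cl3_8_0 : chkOn A 15 0 8 (((((((((cl3_l).drop 33).drop 21).drop 18).drop 18).drop 18).drop 20).drop 20).drop 17) = true := by decide +kernel

theorem cl3_8_8 : chkOn A 15 8 7 (((((((((cl3_l).drop 33).drop 21).drop 18).drop 18).drop 18).drop 20).drop 20).drop 17) = true := by decide +kernel

theorem ok3 : plainOK A 38 40 9702 tr3 ce3 = true := by decide +kernel

theorem orb3 : orbCardB A 12 38 9702 3 16 = true := by decide +kernel

theorem cl2_0_0 : chkOn A 15 0 8 ((cl2_l).take 27) = true := by decide +kernel

theorem cl2_0_8 : chkOn A 15 8 7 ((cl2_l).take 27) = true := by decide +kernel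

theorem cl2_1_0 : chkOn A 15 0 8 (((cl2_l).drop 27).take 11) = true := by decide +kernel

theorem cl2_1_8 : chkOn A 15 8 7 (((cl2_l).drop 27).take 11) = true := by decide +kernel

theorem cl2_2_0 : chkOn A 15 0 8 ((((cl2_l).drop 27).drop 11).take 13) = true := by decide +kernel

theorem cl2_2_8 : chkOn A 15 8 7 ((((cl2_l).drop 27).drop 11).take 13) = true := by decide +kernel

theorem cl2_3_0 : chkOn A 15 0 8 ((((cl2_l).drop 27).drop 11).drop 13) = true := by decide +kernel

theorem cl2_3_8 : chkOn A 15 8 7 ((((cl2_l).drop 27).drop 11).drop 13) = true := by decide +kernel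

theorem ok2 : dcOK A 37 40 12777 9702 3 cj2 reps2 = true := by decide +kernel

theorem orb2 : orbCardB A 12 37 12777 4 48 = true := by decide +kernel


end Cfsg.Agent.Spor.J4A
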