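import Cfsg.Agent.Lib.Spor.J4A.Defs

set_option autoImplicit false
set_option maxRecDepth 100000
set_option Elab.async false
set_option exponentiation.threshold 100000

namespace Cfsg.Agent.Spor.J4A
open Cfsg.Agent.PG

theorem cl1_0_0 : chkOn A 15 0 8 ((cl1_l).take 26) = true := by decide +kernel

theorem cl1_0_8 : chkOn A 15 8 7 ((cl1_l).take 26) = true := by decide +kernel

theorem cl1_1_0 : chkOn A 15 0 8 (((cl1_l).drop 26).take 9) = true := by decide +kernel

theorem cl1_1_8 : chkOn A 15 8 7 (((cl1_l).drop 26).take 9) = true := by decide +kernel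

theorem cl1_2_0 : chkOn A 15 0 8 ((((cl1_l).drop 26).drop 9).take 7) = true := by decide +kernel

theorem cl1_2_8 : chkOn A 15 8 7 ((((cl1_l).drop 26).drop 9).take 7) = true := by decide +kernel

theorem cl1_3_0 : chkOn A 15 0 8 (((((cl1_l).drop 26).drop 9).drop 7).take 9) = true := by decide +kernel

theorem cl1_3_8 : chkOn A 15 8 7 (((((cl1_l).drop 26).drop 9).drop 7).take 9) = true := by decide +kernel

theorem cl1_4_0 : chkOn A 15 0 8 (((((cl1_l).drop 26).drop 9).drop 7).drop 9) = true := by decide +kernel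

theorem cl1_4_8 : chkOn A 15 8 7 (((((cl1_l).drop 26).drop 9).drop 7).drop 9) = true := by decide +kernel

theorem ok1 : dcOK A 36 38 1 12777 4 cj1 reps1 = true := by decide +kernel

theorem orb1 : orbCardB A 12 36 1 4 84 = true := by decide +kernel

theorem cl0_0_0 : chkOn A 15 0 8 ((cl0_l).take 9) = true := by decide +kernel

theorem cl0_0_8 : chkOn A 15 8 7 ((cl0_l).take 9) = true := by decide +kernel

theorem cl0_1_0 : chkOn A 15 0 8 (((cl0_l).drop 9).take 23) = true := by decide +kernel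

theorem cl0_1_8 : chkOn A 15 8 7 (((cl0_l).drop 9).take 23) = true := by decide +kernel

theorem cl0_2_0 : chkOn A 15 0 8 ((((cl0_l).drop 9).drop 23).take 8) = true := by decide +kernel

theorem cl0_2_8 : chkOn A 15 8 7 ((((cl0_l).drop 9).drop 23).take 8) = true := by decide +kernel

theorem cl0_3_0 : chkOn A 15 0 8 (((((cl0_l).drop 9).drop 23).drop 8).take 6) = true := by decide +kernel

theorem cl0_3_8 : chkOn A 15 8 7 (((((cl0_l).drop 9).drop 23).drop 8).take 6) = true := by decide +kernel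

theorem cl0_4_0 : chkOn A 15 0 8 ((((((cl0_l).drop 9).drop 23).drop 8).drop 6).take 6) = true := by decide +kernel

theorem cl0_4_8 : chkOn A 15 8 7 ((((((cl0_l).drop 9).drop 23).drop 8).drop 6).take 6) = true := by decide +kernel

theorem cl0_5_0 : chkOn A 15 0 8 (((((((cl0_l).drop 9).drop 23).drop 8).drop 6).drop 6).take 5) = true := by decide +kernel

theorem cl0_5_8 : chkOn A 15 8 7 (((((((cl0_l).drop 9).drop 23).drop 8).drop 6).drop 6).take 5) = true := by decide +kernel

theorem cl0_6_0 : chkOn A 15 0 8 ((((((((cl0_l).drop 9).drop 23).drop 8).drop 6).drop 6).drop 5).take 6) = true := by decide +kernel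

theorem cl0_6_8 : chkOn A 15 8 7 ((((((((cl0_l).drop 9).drop 23).drop 8).drop 6).drop 6).drop 5).take 6) = true := by decide +kernel

theorem cl0_7_0 : chkOn A 15 0 8 (((((((((cl0_l).drop 9).drop 23).drop 8).drop 6).drop 6).drop 5).drop 6).take 7) = true := by decide +kernel

theorem cl0_7_8 : chkOn A 15 8 7 (((((((((cl0_l).drop 9).drop 23).drop 8).drop 6).drop 6).drop 5).drop 6).take 7) = true := by decide +kernel

theorem cl0_8_0 : chkOn A 15 0 8 (((((((((cl0_l).drop 9).drop 23).drop 8).drop 6).drop 6).drop 5).drop 6).drop 7) = true := by decide +kernel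

theorem cl0_8_8 : chkOn A 15 8 7 (((((((((cl0_l).drop 9).drop 23).drop 8).drop 6).drop 6).drop 5).drop 6).drop 7) = true := by decide +kernel

theorem ok0 : dcOK A 35 37 0 1 4 cj0 reps0 = true := by decide +kernel

theorem orb0 : orbCardB A 12 35 0 5 15180 = true := by decide +kernel

theorem nclokH_12 : nclOK A 48 49 4 2 [[0x02c0]] [(1, 0)] = true := by decide +kernel

theorem nclokH_11 : nclOK A 47 48 3 2 [[0x02bc]] [(1, 0), (1, 1)] = true := by decide +kernel

theorem nclokH_10 : nclOK A 46 47 2 2 [[0x02b8]] [(1, 0), (1, 1), (1, 2)] = true := by decide +kernel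

theorem nclokH_9 : nclOK A 45 46 1155 2 [[0x02b4]] [(1, 0), (1, 1), (1, 2), (1, 3)] = true := by decide +kernel

theorem nclokH_8 : nclOK A 44 45 16 2 [[0x02b0]] [(1, 0), (1, 1), (1, 2), (1, 3), (1, 4)] = true := by decide +kernel

theorem nclokH_7 : nclOK A 43 44 44 2 [[0x02ac]] [(1, 0), (1, 1), (1, 2), (1, 3), (1, 4), (1, 5)] = true := by decide +kernel

theorem nclokH_6 : nclOK A 42 43 1147 2 [[0x02a8]] [(1, 0), (1, 1), (1, 2), (1, 3), (1, 4), (1, 5), (1, 6)] = true := by decide +kernel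

theorem nclokH_5 : nclOK A 41 42 533 2 [[0x02a4]] [(1, 0), (1, 1), (1, 2), (1, 3), (1, 4), (1, 5), (1, 6), (1, 7)] = true := by decide +kernel

theorem nclokH_4 : nclOK A 40 41 17 2 [[0x02a0]] [(1, 0), (1, 1), (1, 2), (1, 3), (1, 4), (1, 5), (1, 6), (1, 7), (1, 8)] = true := by decide +kernel

theorem nclokH_3 : nclOK A 38 40 9702 3 [[0x0298], [0x029c]] [(1, 0), (1, 1), (1, 2), (1, 3), (1, 4), (1, 5), (1, 6), (1, 7), (1, 8), (1, 9), (1, 10)] = true := by decide +kernel

theorem nclokH_2 : nclOK A 37 38 12777 4 [[0x0294]] [(1, 0), (1, 1), (1, 2), (1, 3), (1, 4), (1, 5), (1, 6), (1, 7), (1, 8), (1, 9), (1, 10), (1, 11)] = true := by decide +kernel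

theorem nclokH_1 : nclOK A 36 37 1 5 [[0x0290]] [(1, 0), (1, 1), (1, 2), (1, 3), (1, 4), (1, 5), (1, 6), (1, 7), (1, 8), (1, 9), (1, 10), (1, 11), (1, 12)] = true := by decide +kernel

theorem nclokH_0 : nclOK A 35 36 0 5 [] [(1, 0), (1, 1), (1, 2), (1, 3), (1, 4), (1, 5), (1, 6), (1, 7), (1, 8), (1, 9), (1, 10), (1, 11), (1, 12), (0x1464646, 7)] = true := by decide +kernel

theorem zclH_0_0 : chkOn A 15 0 8 ((zclH_l).take 2) = true := by decide +kernel

theorem zclH_0_8 : chkOn A 15 8 7 ((zclH_l).take 2) = true := by decide +kernel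

theorem zclH_1_0 : chkOn A 15 0 8 (((zclH_l).drop 2).take 2) = true := by decide +kernel

theorem zclH_1_8 : chkOn A 15 8 7 (((zclH_l).drop 2).take 2) = true := by decide +kernel

theorem zclH_2_0 : chkOn A 15 0 8 ((((zclH_l).drop 2).drop 2).take 2) = true := by decide +kernel

theorem zclH_2_8 : chkOn A 15 8 7 ((((zclH_l).drop 2).drop 2).take 2) = true := by decide +kernel

theorem zclH_3_0 : chkOn A 15 0 8 (((((zclH_l).drop 2).drop 2).drop 2).take 2) = true := by decide +kernel


end Cfsg.Agent.Spor.J4A
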