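import Cfsg.Agent.Lib.Spor.J4A.C0
import Cfsg.Agent.Lib.Spor.J4A.C1
import Cfsg.Agent.Lib.Spor.J4A.C2
import Cfsg.Agent.Lib.Spor.J4A.Defs

set_option autoImplicit false
set_option maxRecDepth 100000
set_option Elab.async false
set_option exponentiation.threshold 100000

namespace Cfsg.Agent.Spor.J4A
open Cfsg.Agent.PG

theorem card13 : Nat.card (K A 49) = 1 := card_K_last A (le_of_eq hlen)

theorem cl12 : ∀ c ∈ cl12_l, Holds A c :=
  (fun c hc => HoldsOn.holds hA ((chkOn_spec hA cl12_0_0 c hc).append (chkOn_spec hA cl12_0_8 c hc)))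

theorem stab12 : StabIs A 48 4 49 := stabIs_plain hA ok12 cl12

theorem card12 : Nat.card (K A 48) = 2 := card_K_step hA stab12 orb12 card13

theorem cl11 : ∀ c ∈ cl11_l, Holds A c :=
  (fun c hc => HoldsOn.holds hA ((chkOn_spec hA cl11_0_0 c hc).append (chkOn_spec hA cl11_0_8 c hc)))

theorem stab11 : StabIs A 47 3 48 := stabIs_plain hA ok11 cl11

theorem card11 : Nat.card (K A 47) = 4 := card_K_step hA stab11 orb11 card12

theorem cl10 : ∀ c ∈ cl10_l, Holds A c :=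
  (fun c hc => HoldsOn.holds hA ((chkOn_spec hA cl10_0_0 c hc).append (chkOn_spec hA cl10_0_8 c hc)))

theorem stab10 : StabIs A 46 2 47 := stabIs_plain hA ok10 cl10

theorem card10 : Nat.card (K A 46) = 8 := card_K_step hA stab10 orb10 card11

theorem cl9 : ∀ c ∈ cl9_l, Holds A c :=
  (fun c hc => HoldsOn.holds hA ((chkOn_spec hA cl9_0_0 c hc).append (chkOn_spec hA cl9_0_8 c hc)))

theorem stab9 : StabIs A 45 1155 46 := stabIs_plain hA ok9 cl9

theorem card9 : Nat.card (K A 45) = 16 := card_K_step hA stab9 orb9 card10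

theorem cl8 : ∀ c ∈ cl8_l, Holds A c :=
  (fun c hc => HoldsOn.holds hA ((chkOn_spec hA cl8_0_0 c hc).append (chkOn_spec hA cl8_0_8 c hc)))

theorem stab8 : StabIs A 44 16 45 := stabIs_plain hA ok8 cl8

theorem card8 : Nat.card (K A 44) = 32 := card_K_step hA stab8 orb8 card9

theorem cl7 : ∀ c ∈ cl7_l, Holds A c :=
  (fun c hc => HoldsOn.holds hA ((chkOn_spec hA cl7_0_0 c hc).append (chkOn_spec hA cl7_0_8 c hc)))

theorem stab7 : StabIs A 43 44 44 := stabIs_plain hA ok7 cl7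

theorem card7 : Nat.card (K A 43) = 64 := card_K_step hA stab7 orb7 card8

theorem cl6 : ∀ c ∈ cl6_l, Holds A c :=
  (fun c hc => HoldsOn.holds hA ((chkOn_spec hA cl6_0_0 c hc).append (chkOn_spec hA cl6_0_8 c hc)))

theorem stab6 : StabIs A 42 1147 43 := stabIs_plain hA ok6 cl6

theorem card6 : Nat.card (K A 42) = 128 := card_K_step hA stab6 orb6 card7

theorem cl5 : ∀ c ∈ cl5_l, Holds A c :=
  (fun c hc => HoldsOn.holds hA ((chkOn_spec hA cl5_0_0 c hc).append (chkOn_spec hA cl5_0_8 c hc)))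

theorem stab5 : StabIs A 41 533 42 := stabIs_plain hA ok5 cl5

theorem card5 : Nat.card (K A 41) = 256 := card_K_step hA stab5 orb5 card6

theorem cl4 : ∀ c ∈ cl4_l, Holds A c :=
  (fun c hc => HoldsOn.holds hA ((chkOn_spec hA cl4_0_0 c hc).append (chkOn_spec hA cl4_0_8 c hc)))

theorem stab4 : StabIs A 40 17 41 := stabIs_plain hA ok4 cl4

theorem card4 : Nat.card (K A 40) = 512 := card_K_step hA stab4 orb4 card5

theorem cl3 : ∀ c ∈ cl3_l, Holds A c :=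
  (forall_take_drop 33 (fun c hc => HoldsOn.holds hA ((chkOn_spec hA cl3_0_0 c hc).append (chkOn_spec hA cl3_0_8 c hc)))
  (forall_take_drop 21 (fun c hc => HoldsOn.holds hA ((chkOn_spec hA cl3_1_0 c hc).append (chkOn_spec hA cl3_1_8 c hc)))
  (forall_take_drop 18 (fun c hc => HoldsOn.holds hA ((chkOn_spec hA cl3_2_0 c hc).append (chkOn_spec hA cl3_2_8 c hc)))
  (forall_take_drop 18 (fun c hc => HoldsOn.holds hA ((chkOn_spec hA cl3_3_0 c hc).append (chkOn_spec hA cl3_3_8 c hc)))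
  (forall_take_drop 18 (fun c hc => HoldsOn.holds hA ((chkOn_spec hA cl3_4_0 c hc).append (chkOn_spec hA cl3_4_8 c hc)))
  (forall_take_drop 20 (fun c hc => HoldsOn.holds hA ((chkOn_spec hA cl3_5_0 c hc).append (chkOn_spec hA cl3_5_8 c hc)))
  (forall_take_drop 20 (fun c hc => HoldsOn.holds hA ((chkOn_spec hA cl3_6_0 c hc).append (chkOn_spec hA cl3_6_8 c hc)))
  (forall_take_drop 17 (fun c hc => HoldsOn.holds hA ((chkOn_spec hA cl3_7_0 c hc).append (chkOn_spec hA cl3_7_8 c hc)))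
  (fun c hc => HoldsOn.holds hA ((chkOn_spec hA cl3_8_0 c hc).append (chkOn_spec hA cl3_8_8 c hc)))))))))))

theorem stab3 : StabIs A 38 9702 40 := stabIs_plain hA ok3 cl3

theorem card3 : Nat.card (K A 38) = 8192 := card_K_step hA stab3 orb3 card4

theorem cl2 : ∀ c ∈ cl2_l, Holds A c :=
  (forall_take_drop 27 (fun c hc => HoldsOn.holds hA ((chkOn_spec hA cl2_0_0 c hc).append (chkOn_spec hA cl2_0_8 c hc)))
  (forall_take_drop 11 (fun c hc => HoldsOn.holds hA ((chkOn_spec hA cl2_1_0 c hc).append (chkOn_spec hA cl2_1_8 c hc)))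
  (forall_take_drop 13 (fun c hc => HoldsOn.holds hA ((chkOn_spec hA cl2_2_0 c hc).append (chkOn_spec hA cl2_2_8 c hc)))
  (fun c hc => HoldsOn.holds hA ((chkOn_spec hA cl2_3_0 c hc).append (chkOn_spec hA cl2_3_8 c hc))))))

theorem stab2 : StabIs A 37 12777 38 := stabIs_dc hA stab3 ok2 cl2

theorem card2 : Nat.card (K A 37) = 393216 := card_K_step hA stab2 orb2 card3

theorem cl1 : ∀ c ∈ cl1_l, Holds A c :=
  (forall_take_drop 26 (fun c hc => HoldsOn.holds hA ((chkOn_spec hA cl1_0_0 c hc).append (chkOn_spec hA cl1_0_8 c hc)))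
  (forall_take_drop 9 (fun c hc => HoldsOn.holds hA ((chkOn_spec hA cl1_1_0 c hc).append (chkOn_spec hA cl1_1_8 c hc)))
  (forall_take_drop 7 (fun c hc => HoldsOn.holds hA ((chkOn_spec hA cl1_2_0 c hc).append (chkOn_spec hA cl1_2_8 c hc)))
  (forall_take_drop 9 (fun c hc => HoldsOn.holds hA ((chkOn_spec hA cl1_3_0 c hc).append (chkOn_spec hA cl1_3_8 c hc)))
  (fun c hc => HoldsOn.holds hA ((chkOn_spec hA cl1_4_0 c hc).append (chkOn_spec hA cl1_4_8 c hc)))))))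

theorem stab1 : StabIs A 36 1 37 := stabIs_dc hA stab2 ok1 cl1

theorem card1 : Nat.card (K A 36) = 33030144 := card_K_step hA stab1 orb1 card2

theorem cl0 : ∀ c ∈ cl0_l, Holds A c :=
  (forall_take_drop 9 (fun c hc => HoldsOn.holds hA ((chkOn_spec hA cl0_0_0 c hc).append (chkOn_spec hA cl0_0_8 c hc)))
  (forall_take_drop 23 (fun c hc => HoldsOn.holds hA ((chkOn_spec hA cl0_1_0 c hc).append (chkOn_spec hA cl0_1_8 c hc)))
  (forall_take_drop 8 (fun c hc => HoldsOn.holds hA ((chkOn_spec hA cl0_2_0 c hc).append (chkOn_spec hA cl0_2_8 c hc)))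
  (forall_take_drop 6 (fun c hc => HoldsOn.holds hA ((chkOn_spec hA cl0_3_0 c hc).append (chkOn_spec hA cl0_3_8 c hc)))
  (forall_take_drop 6 (fun c hc => HoldsOn.holds hA ((chkOn_spec hA cl0_4_0 c hc).append (chkOn_spec hA cl0_4_8 c hc)))
  (forall_take_drop 5 (fun c hc => HoldsOn.holds hA ((chkOn_spec hA cl0_5_0 c hc).append (chkOn_spec hA cl0_5_8 c hc)))
  (forall_take_drop 6 (fun c hc => HoldsOn.holds hA ((chkOn_spec hA cl0_6_0 c hc).append (chkOn_spec hA cl0_6_8 c hc)))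
  (forall_take_drop 7 (fun c hc => HoldsOn.holds hA ((chkOn_spec hA cl0_7_0 c hc).append (chkOn_spec hA cl0_7_8 c hc)))
  (fun c hc => HoldsOn.holds hA ((chkOn_spec hA cl0_8_0 c hc).append (chkOn_spec hA cl0_8_8 c hc)))))))))))

theorem stab0 : StabIs A 35 0 36 := stabIs_dc hA stab1 ok0 cl0

theorem card0 : Nat.card (K A 35) = 501397585920 := card_K_step hA stab0 orb0 card1

theorem fixTriv0 {B : Set ℕ} (h0 : 0 ∈ B) (h1 : 1 ∈ B) (h2 : 12777 ∈ B) (h3 : 9702 ∈ B) (h4 : 17 ∈ B) (h5 : 533 ∈ B) (h6 : 1147 ∈ B) (h7 : 44 ∈ B) (h8 : 16 ∈ B) (h9 : 1155 ∈ B) (h10 : 2 ∈ B) (h11 : 3 ∈ B) (h12 : 4 ∈ B) : FixTriv (K A 35) B :=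
  fixTriv_step stab0 h0 <| fixTriv_step stab1 h1 <| fixTriv_step stab2 h2 <| fixTriv_step stab3 h3 <| fixTriv_step stab4 h4 <| fixTriv_step stab5 h5 <| fixTriv_step stab6 h6 <| fixTriv_step stab7 h7 <| fixTriv_step stab8 h8 <| fixTriv_step stab9 h9 <| fixTriv_step stab10 h10 <| fixTriv_step stab11 h11 <| fixTriv_step stab12 h12 <| fixTriv_last A (le_of_eq hlen) B

theorem fixTriv1 {B : Set ℕ} (h1 : 1 ∈ B) (h2 : 12777 ∈ B) (h3 : 9702 ∈ B) (h4 : 17 ∈ B) (h5 : 533 ∈ B) (h6 : 1147 ∈ B) (h7 : 44 ∈ B) (h8 : 16 ∈ B) (h9 : 1155 ∈ B) (h10 : 2 ∈ B) (h11 : 3 ∈ B) (h12 : 4 ∈ B) : FixTriv (K A 36) B :=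
  fixTriv_step stab1 h1 <| fixTriv_step stab2 h2 <| fixTriv_step stab3 h3 <| fixTriv_step stab4 h4 <| fixTriv_step stab5 h5 <| fixTriv_step stab6 h6 <| fixTriv_step stab7 h7 <| fixTriv_step stab8 h8 <| fixTriv_step stab9 h9 <| fixTriv_step stab10 h10 <| fixTriv_step stab11 h11 <| fixTriv_step stab12 h12 <| fixTriv_last A (le_of_eq hlen) B

theorem fixTriv2 {B : Set ℕ} (h2 : 12777 ∈ B) (h3 : 9702 ∈ B) (h4 : 17 ∈ B) (h5 : 533 ∈ B) (h6 : 1147 ∈ B) (h7 : 44 ∈ B) (h8 : 16 ∈ B) (h9 : 1155 ∈ B) (h10 : 2 ∈ B) (h11 : 3 ∈ B) (h12 : 4 ∈ B) : FixTriv (K A 37) B :=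
  fixTriv_step stab2 h2 <| fixTriv_step stab3 h3 <| fixTriv_step stab4 h4 <| fixTriv_step stab5 h5 <| fixTriv_step stab6 h6 <| fixTriv_step stab7 h7 <| fixTriv_step stab8 h8 <| fixTriv_step stab9 h9 <| fixTriv_step stab10 h10 <| fixTriv_step stab11 h11 <| fixTriv_step stab12 h12 <| fixTriv_last A (le_of_eq hlen) B

theorem fixTriv3 {B : Set ℕ} (h3 : 9702 ∈ B) (h4 : 17 ∈ B) (h5 : 533 ∈ B) (h6 : 1147 ∈ B) (h7 : 44 ∈ B) (h8 : 16 ∈ B) (h9 : 1155 ∈ B) (h10 : 2 ∈ B) (h11 : 3 ∈ B) (h12 : 4 ∈ B) : FixTriv (K A 38) B :=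
  fixTriv_step stab3 h3 <| fixTriv_step stab4 h4 <| fixTriv_step stab5 h5 <| fixTriv_step stab6 h6 <| fixTriv_step stab7 h7 <| fixTriv_step stab8 h8 <| fixTriv_step stab9 h9 <| fixTriv_step stab10 h10 <| fixTriv_step stab11 h11 <| fixTriv_step stab12 h12 <| fixTriv_last A (le_of_eq hlen) B

theorem fixTriv4 {B : Set ℕ} (h4 : 17 ∈ B) (h5 : 533 ∈ B) (h6 : 1147 ∈ B) (h7 : 44 ∈ B) (h8 : 16 ∈ B) (h9 : 1155 ∈ B) (h10 : 2 ∈ B) (h11 : 3 ∈ B) (h12 : 4 ∈ B) : FixTriv (K A 40) B :=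
  fixTriv_step stab4 h4 <| fixTriv_step stab5 h5 <| fixTriv_step stab6 h6 <| fixTriv_step stab7 h7 <| fixTriv_step stab8 h8 <| fixTriv_step stab9 h9 <| fixTriv_step stab10 h10 <| fixTriv_step stab11 h11 <| fixTriv_step stab12 h12 <| fixTriv_last A (le_of_eq hlen) B

theorem fixTriv5 {B : Set ℕ} (h5 : 533 ∈ B) (h6 : 1147 ∈ B) (h7 : 44 ∈ B) (h8 : 16 ∈ B) (h9 : 1155 ∈ B) (h10 : 2 ∈ B) (h11 : 3 ∈ B) (h12 : 4 ∈ B) : FixTriv (K A 41) B :=
  fixTriv_step stab5 h5 <| fixTriv_step stab6 h6 <| fixTriv_step stab7 h7 <| fixTriv_step stab8 h8 <| fixTriv_step stab9 h9 <| fixTriv_step stab10 h10 <| fixTriv_step stab11 h11 <| fixTriv_step stab12 h12 <| fixTriv_last A (le_of_eq hlen) B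

theorem fixTriv6 {B : Set ℕ} (h6 : 1147 ∈ B) (h7 : 44 ∈ B) (h8 : 16 ∈ B) (h9 : 1155 ∈ B) (h10 : 2 ∈ B) (h11 : 3 ∈ B) (h12 : 4 ∈ B) : FixTriv (K A 42) B :=
  fixTriv_step stab6 h6 <| fixTriv_step stab7 h7 <| fixTriv_step stab8 h8 <| fixTriv_step stab9 h9 <| fixTriv_step stab10 h10 <| fixTriv_step stab11 h11 <| fixTriv_step stab12 h12 <| fixTriv_last A (le_of_eq hlen) B

theorem fixTriv7 {B : Set ℕ} (h7 : 44 ∈ B) (h8 : 16 ∈ B) (h9 : 1155 ∈ B) (h10 : 2 ∈ B) (h11 : 3 ∈ B) (h12 : 4 ∈ B) : FixTriv (K A 43) B :=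
  fixTriv_step stab7 h7 <| fixTriv_step stab8 h8 <| fixTriv_step stab9 h9 <| fixTriv_step stab10 h10 <| fixTriv_step stab11 h11 <| fixTriv_step stab12 h12 <| fixTriv_last A (le_of_eq hlen) B

theorem fixTriv8 {B : Set ℕ} (h8 : 16 ∈ B) (h9 : 1155 ∈ B) (h10 : 2 ∈ B) (h11 : 3 ∈ B) (h12 : 4 ∈ B) : FixTriv (K A 44) B :=
  fixTriv_step stab8 h8 <| fixTriv_step stab9 h9 <| fixTriv_step stab10 h10 <| fixTriv_step stab11 h11 <| fixTriv_step stab12 h12 <| fixTriv_last A (le_of_eq hlen) B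

theorem fixTriv9 {B : Set ℕ} (h9 : 1155 ∈ B) (h10 : 2 ∈ B) (h11 : 3 ∈ B) (h12 : 4 ∈ B) : FixTriv (K A 45) B :=
  fixTriv_step stab9 h9 <| fixTriv_step stab10 h10 <| fixTriv_step stab11 h11 <| fixTriv_step stab12 h12 <| fixTriv_last A (le_of_eq hlen) B

theorem fixTriv10 {B : Set ℕ} (h10 : 2 ∈ B) (h11 : 3 ∈ B) (h12 : 4 ∈ B) : FixTriv (K A 46) B :=
  fixTriv_step stab10 h10 <| fixTriv_step stab11 h11 <| fixTriv_step stab12 h12 <| fixTriv_last A (le_of_eq hlen) B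

theorem fixTriv11 {B : Set ℕ} (h11 : 3 ∈ B) (h12 : 4 ∈ B) : FixTriv (K A 47) B :=
  fixTriv_step stab11 h11 <| fixTriv_step stab12 h12 <| fixTriv_last A (le_of_eq hlen) B

theorem fixTriv12 {B : Set ℕ} (h12 : 4 ∈ B) : FixTriv (K A 48) B :=
  fixTriv_step stab12 h12 <| fixTriv_last A (le_of_eq hlen) B

theorem zclH : ∀ c ∈ zclH_l, Holds A c :=
  (forall_take_drop 2 (fun c hc => HoldsOn.holds hA ((chkOn_spec hA zclH_0_0 c hc).append (chkOn_spec hA zclH_0_8 c hc)))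
  (forall_take_drop 2 (fun c hc => HoldsOn.holds hA ((chkOn_spec hA zclH_1_0 c hc).append (chkOn_spec hA zclH_1_8 c hc)))
  (forall_take_drop 2 (fun c hc => HoldsOn.holds hA ((chkOn_spec hA zclH_2_0 c hc).append (chkOn_spec hA zclH_2_8 c hc)))
  (forall_take_drop 2 (fun c hc => HoldsOn.holds hA ((chkOn_spec hA zclH_3_0 c hc).append (chkOn_spec hA zclH_3_8 c hc)))
  (forall_take_drop 2 (fun c hc => HoldsOn.holds hA ((chkOn_spec hA zclH_4_0 c hc).append (chkOn_spec hA zclH_4_8 c hc)))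
  (forall_take_drop 2 (fun c hc => HoldsOn.holds hA ((chkOn_spec hA zclH_5_0 c hc).append (chkOn_spec hA zclH_5_8 c hc)))
  (fun c hc => HoldsOn.holds hA ((chkOn_spec hA zclH_6_0 c hc).append (chkOn_spec hA zclH_6_8 c hc)))))))))

theorem nclH (M : Subgroup (Equiv.Perm ℕ)) (hM : ∀ σ ∈ K A 35, ∀ n ∈ M, σ * n * σ⁻¹ ∈ M) (hy : pp A [0x02a89a92969890a8928c8c8c9298a498] ∈ M) : K A 35 ≤ M :=
  have hz := z_mem hM hy (zc := zcH) (by decide +kernel) zclH
  ncl_step hA stab0 nclokH_0 (by decide) hM (sub_z hz (by decide +kernel)) <|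
  ncl_step hA stab1 nclokH_1 (by decide) hM (sub_z hz (by decide +kernel)) <|
  ncl_step hA stab2 nclokH_2 (by decide) hM (sub_z hz (by decide +kernel)) <|
  ncl_step hA stab3 nclokH_3 (by decide) hM (sub_z hz (by decide +kernel)) <|
  ncl_step hA stab4 nclokH_4 (by decide) hM (sub_z hz (by decide +kernel)) <|
  ncl_step hA stab5 nclokH_5 (by decide) hM (sub_z hz (by decide +kernel)) <|
  ncl_step hA stab6 nclokH_6 (by decide) hM (sub_z hz (by decide +kernel)) <|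
  ncl_step hA stab7 nclokH_7 (by decide) hM (sub_z hz (by decide +kernel)) <|
  ncl_step hA stab8 nclokH_8 (by decide) hM (sub_z hz (by decide +kernel)) <|
  ncl_step hA stab9 nclokH_9 (by decide) hM (sub_z hz (by decide +kernel)) <|
  ncl_step hA stab10 nclokH_10 (by decide) hM (sub_z hz (by decide +kernel)) <|
  ncl_step hA stab11 nclokH_11 (by decide) hM (sub_z hz (by decide +kernel)) <|
  ncl_step hA stab12 nclokH_12 (by decide) hM (sub_z hz (by decide +kernel)) <|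
  K_last_le A (le_of_eq hlen) M

theorem ccmz : ∀ c ∈ ccmz_l, Holds A c :=
  (forall_take_drop 8 (fun c hc => HoldsOn.holds hA ((chkOn_spec hA ccmz_0_0 c hc).append (chkOn_spec hA ccmz_0_8 c hc)))
  (fun c hc => HoldsOn.holds hA ((chkOn_spec hA ccmz_1_0 c hc).append (chkOn_spec hA ccmz_1_8 c hc))))

theorem centz : CentOK A 35 czz 15180 5 cgz :=
  centOK_of hA (by decide +kernel) coz (m := 283115520) (card0.trans (by norm_num)) (by decide +kernel) clbz (by decide +kernel) ccmz csubz cncz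

theorem fixO : FixTriv (K A 35) {i | ∃ τ ∈ K A 35, τ 0 = i} :=
  fixTriv0
    (mem_orbit_of_word hA (w := 1) (by decide +kernel))
    (mem_orbit_of_word hA (w := 0x147) (by decide +kernel))
    (mem_orbit_of_word hA (w := 0x14749) (by decide +kernel))
    (mem_orbit_of_word hA (w := 0x14748) (by decide +kernel))
    (mem_orbit_of_word hA (w := 0x1465247474a) (by decide +kernel))
    (mem_orbit_of_word hA (w := 0x146484652) (by decide +kernel))
    (mem_orbit_of_word hA (w := 0x1464a49464a) (by decide +kernel))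
    (mem_orbit_of_word hA (w := 0x146484a) (by decide +kernel))
    (mem_orbit_of_word hA (w := 0x146494a464b46) (by decide +kernel))
    (mem_orbit_of_word hA (w := 0x1464e4749) (by decide +kernel))
    (mem_orbit_of_word hA (w := 0x1464649504748) (by decide +kernel))
    (mem_orbit_of_word hA (w := 0x14646494d4946) (by decide +kernel))
    (mem_orbit_of_word hA (w := 0x14747) (by decide +kernel))


end Cfsg.Agent.Spor.J4A
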